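import Cfsg.Agent.Lib.Sp6Mult.Upper
import Cfsg.Agent.S0246

/-!
# A quotient of the Weyl group of type `E₇` of order 1451520 is `Sp₆(2)`
-/

set_option autoImplicit false

namespace Cfsg.Agent.SpSix

open Cfsg.Agent.Sp6Mult

universe u v

variable {F : Type u} [Field F] [Fintype F]

theorem center_eq_bot (hF : Fintype.card F = 2) :
    Subgroup.center (Matrix.symplecticGroup (Fin 3) F) = ⊥ :=
  Subgroup.card_eq_one.1 (by rw [Cfsg.Agent.S0246.result hF 3 (by norm_num)]; rfl)

/-- A quotient of order 1451520 of the Weyl group of type `E₇` is `Sp₆(2)`. -/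
theorem exists_equiv (hF : Fintype.card F = 2) {G : Type v} [Group G] (φ : WGr →* G)
    (hφ : Function.Surjective φ) (hG : Nat.card G = 1451520) :
    Nonempty (G ≃* Matrix.symplecticGroup (Fin 3) F) := by
  obtain ⟨π, hπ, -⟩ := exists_weyl_hom hF
  have : Finite WGr := Nat.finite_of_card_ne_zero (by rw [Chevalley.Types.CoxE7.card_eq]; norm_num)
  let e : Cfsg.PSp 3 F ≃* Matrix.symplecticGroup (Fin 3) F :=
    (QuotientGroup.quotientMulEquivOfEq (center_eq_bot hF)).trans QuotientGroup.quotientBot
  have hker : ∀ {H : Type v} [Group H] (f : WGr →* H), Function.Surjective f → Nat.card H = 1451520 →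
      Nat.card f.ker = 2 := by
    intro H _ f hf hH
    have h := Subgroup.card_eq_card_quotient_mul_card_subgroup f.ker
    rw [Nat.card_congr (QuotientGroup.quotientKerEquivOfSurjective f hf).toEquiv, hH,
      Chevalley.Types.CoxE7.card_eq] at h
    omega
  have hk := hker φ hφ hG
  have hk' : Nat.card π.ker = 2 := by
    have h := Subgroup.card_eq_card_quotient_mul_card_subgroup π.ker
    rw [Nat.card_congr (QuotientGroup.quotientKerEquivOfSurjective π hπ).toEquiv, card_psp hF,
      Chevalley.Types.CoxE7.card_eq] at h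
    omega
  have hle : φ.ker ≤ π.ker := by
    intro x hx
    rw [MonoidHom.mem_ker, ← e.map_eq_one_iff]
    have hc : ∀ w : WGr, w * x = x * w := by
      intro w
      have hc := MonoidHom.normal_ker φ
      by_cases h1 : x = 1
      · rw [h1, one_mul, mul_one]
      obtain ⟨y, -, hy⟩ := (Nat.card_eq_two_iff' (⟨1, one_mem _⟩ : φ.ker)).1 hk
      have e1 : (⟨w * x * w⁻¹, hc.conj_mem x hx w⟩ : φ.ker) = ⟨x, hx⟩ :=
        (hy _ (fun h => h1 (conj_eq_one_iff.1 (congrArg Subtype.val h)))).trans
          (hy _ (fun h => h1 (congrArg Subtype.val h))).symm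
      exact mul_inv_eq_iff_eq_mul.1 (congrArg Subtype.val e1)
    have hmem : e (π x) ∈ Subgroup.center (Matrix.symplecticGroup (Fin 3) F) := by
      rw [Subgroup.mem_center_iff]
      intro y
      obtain ⟨p, rfl⟩ := e.surjective y
      obtain ⟨w, rfl⟩ := hπ p
      rw [← map_mul, ← map_mul, ← map_mul, ← map_mul, hc w]
    exact Subgroup.mem_bot.1 ((center_eq_bot hF).le hmem)
  have heq : φ.ker = π.ker := Subgroup.eq_of_le_of_card_ge hle (by omega)
  exact ⟨(QuotientGroup.quotientKerEquivOfSurjective φ hφ).symm.trans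
    ((QuotientGroup.quotientMulEquivOfEq heq).trans
      ((QuotientGroup.quotientKerEquivOfSurjective π hπ).trans e))⟩

/-- The same from seven involutions with the relations of the diagram. -/
theorem exists_equiv_of_rels (hF : Fintype.card F = 2) {G : Type v} [Group G] (f : Fin 7 → G)
    (hsq : ∀ i, f i * f i = 1) (h2 : ∀ i j, cm i j = 2 → Commute (f i) (f j))
    (h3 : ∀ i j, cm i j = 3 → f i * f j * f i = f j * f i * f j)
    (hgen : Subgroup.closure (Set.range f) = ⊤) (hG : Nat.card G = 1451520) :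
    Nonempty (G ≃* Matrix.symplecticGroup (Fin 3) F) := by
  refine exists_equiv hF (csys.lift ⟨f, isLiftable hsq h2 h3⟩) ?_ hG
  rw [← MonoidHom.range_eq_top, eq_top_iff, ← hgen, Subgroup.closure_le]
  rintro _ ⟨i, rfl⟩
  exact ⟨csys.simple i, CoxeterSystem.lift_apply_simple _ _ i⟩

end Cfsg.Agent.SpSix
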